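import Mathlib
import Cfsg.Agent.Lib.Solv.PGroupBasic

/-!
A transfer from a proper subgroup of a `p`-group that is nontrivial at an element, all whose
longer orbit values are trivial, gives a quotient isomorphic to the wreath product of two groups
of order `p`.
-/

set_option autoImplicit false
set_option linter.style.haveILetI false

open scoped Classical Pointwise

namespace Cfsg.Lib.Yoshida

universe u

variable {G : Type u} [Group G] {p : ℕ} {A : Type*} [CommGroup A]

/-- The value of `γ` at a coset fixed by `x`, and `1` at the others. -/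
noncomputable def fixedVal {H : Subgroup G} (γ : H →* A) (x : G) (q : G ⧸ H) : A :=
  if h : q.out⁻¹ * x * q.out ∈ H then γ ⟨_, h⟩ else 1

theorem fixedVal_mk {H : Subgroup G} (γ : H →* A) (x a : G) :
    fixedVal γ x (a : G ⧸ H) = if h : a⁻¹ * x * a ∈ H then γ ⟨_, h⟩ else 1 := by
  obtain ⟨u, hu⟩ := QuotientGroup.mk_out_eq_mul H a
  set q : G ⧸ H := (a : G ⧸ H)
  have e : q.out⁻¹ * x * q.out = (u : G)⁻¹ * (a⁻¹ * x * a) * u := by
    rw [hu]
    group
  by_cases h : a⁻¹ * x * a ∈ H
  · have h' : q.out⁻¹ * x * q.out ∈ H := e ▸ mul_mem (mul_mem (inv_mem u.2) h) u.2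
    rw [fixedVal, dif_pos h', dif_pos h,
      show (⟨_, h'⟩ : H) = u⁻¹ * ⟨_, h⟩ * u from Subtype.ext e, map_mul, map_mul, map_inv,
      mul_comm _ (γ u), mul_inv_cancel_left]
  · rw [dif_neg h, fixedVal, dif_neg fun h' => h ?_]
    have h2 := mul_mem (mul_mem u.2 h') (inv_mem u.2)
    rw [e] at h2
    simpa [mul_assoc] using h2

/-- When the longer orbits give `1` the transfer is the product over the fixed cosets. -/
theorem transfer_eq_prod_fixed [Finite G] [hp : Fact p.Prime] (hG : IsPGroup p G) {H : Subgroup G}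
    [Fintype (G ⧸ H)] (γ : H →* A) (x : G)
    (hvan : ∀ (k : ℕ) (a : G) (h : a⁻¹ * x ^ k * a ∈ H), p ∣ k → γ ⟨_, h⟩ = 1) :
    MonoidHom.transfer γ x = ∏ q : G ⧸ H, fixedVal γ x q := by
  letI := Fintype.ofFinite (Quotient (MulAction.orbitRel (Subgroup.zpowers x) (G ⧸ H)))
  let π : G ⧸ H → Quotient (MulAction.orbitRel (Subgroup.zpowers x) (G ⧸ H)) := Quotient.mk''
  rw [MonoidHom.transfer_eq_prod_quotient_orbitRel_zpowers_quot,
    ← Finset.prod_fiberwise Finset.univ π (fixedVal γ x)]
  refine Finset.prod_congr (Finset.ext fun _ => by simp) fun o _ => ?_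
  have hfix : ∀ q : G ⧸ H, fixedVal γ x q ≠ 1 → x • q = q := by
    intro q hq
    unfold fixedVal at hq
    split_ifs at hq with h
    · conv_lhs => rw [← QuotientGroup.out_eq' q]
      rw [MulAction.Quotient.smul_mk]
      conv_rhs => rw [← QuotientGroup.out_eq' q]
      refine QuotientGroup.eq.2 ?_
      have := inv_mem h
      simpa [mul_assoc] using this
    · exact absurd rfl hq
  have horb : ∀ q, π q = o → q ∈ MulAction.orbit (Subgroup.zpowers x) o.out := fun q hq => by
    rw [← MulAction.orbitRel_apply, ← Quotient.eq'']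
    exact hq.trans (Quotient.out_eq' o).symm
  have hper : ∀ q : G ⧸ H, x • q = q → q ∈ MulAction.orbit (Subgroup.zpowers x) o.out →
      q = o.out := by
    intro q hq hmem
    obtain ⟨g, hg⟩ := MulAction.mem_orbit_symm.1 hmem
    have hstab : Subgroup.zpowers x ≤ MulAction.stabilizer G q := Subgroup.zpowers_le.2 hq
    exact (show (g : G) • q = q from hstab g.2).symm.trans hg
  by_cases h1 : Function.minimalPeriod (x • ·) o.out = 1
  · have hx1 : x • o.out = o.out := by
      have h2 := MulAction.pow_smul_eq_iff_minimalPeriod_dvd (a := x) (b := o.out) (n := 1)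
      rw [pow_one] at h2
      exact h2.2 h1.dvd
    rw [show Finset.univ.filter (fun q => π q = o) = {o.out} from ?_, Finset.prod_singleton]
    · simp only [h1, pow_one]
      rw [fixedVal, dif_pos]
    · ext q
      simp only [Finset.mem_filter, Finset.mem_univ, true_and, Finset.mem_singleton]
      refine ⟨fun hq => ?_, fun hq => hq ▸ Quotient.out_eq' o⟩
      obtain ⟨g, hg⟩ := horb q hq
      have hstab : Subgroup.zpowers x ≤ MulAction.stabilizer G o.out := Subgroup.zpowers_le.2 hx1
      exact hg.symm.trans (show (g : G) • o.out = o.out from hstab g.2)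
  · have hdvd : Function.minimalPeriod (x • ·) o.out ∣ orderOf x :=
      MulAction.pow_smul_eq_iff_minimalPeriod_dvd.1 (by rw [pow_orderOf_eq_one, one_smul])
    obtain ⟨j, hj⟩ := hG x
    obtain ⟨i, -, hi⟩ := (Nat.dvd_prime_pow hp.out).1 (hdvd.trans (orderOf_dvd_of_pow_eq_one hj))
    rw [hvan _ _ _ (hi.symm ▸ dvd_pow_self p fun e => h1 (by rw [hi, e, pow_zero]))]
    refine (Finset.prod_eq_one fun q hq => of_not_not fun hne => h1 ?_).symm
    have hq' := hper q (hfix q hne) (horb q (Finset.mem_filter.1 hq).2)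
    have h2 := MulAction.pow_smul_eq_iff_minimalPeriod_dvd (a := x) (b := o.out) (n := 1)
    rw [pow_one] at h2
    exact Nat.dvd_one.1 (h2.1 (hq' ▸ hfix q hne))

section Shift

variable [hp : Fact p.Prime]

/-- A shift invariant additive subgroup of `ZMod p → ZMod p` with a member of nonzero sum is
everything. -/
theorem eq_top_of_shift (W : AddSubgroup (ZMod p → ZMod p))
    (hW : ∀ v ∈ W, (fun i => v (i + 1)) ∈ W) {v : ZMod p → ZMod p} (hv : v ∈ W)
    (hne : ∑ i, v i ≠ 0) : W = ⊤ := by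
  let σ : Module.End (ZMod p) (ZMod p → ZMod p) := LinearMap.funLeft (ZMod p) (ZMod p) (· + 1)
  set D := σ - 1 with hD
  have hσk : ∀ (k : ℕ) (w : ZMod p → ZMod p) (i : ZMod p), (σ ^ k) w i = w (i + k) := by
    intro k
    induction k with
    | zero => intro w i; simp
    | succ k ih =>
      intro w i
      rw [pow_succ, Module.End.mul_apply, ih]
      show w (i + k + 1) = _
      rw [Nat.cast_succ, add_assoc]
  have hσp : σ ^ p = 1 := by
    refine LinearMap.ext fun w => funext fun i => ?_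
    rw [hσk, ZMod.natCast_self, add_zero, Module.End.one_apply]
  have hpoly : (Polynomial.X - 1 : Polynomial (ZMod p)) ^ p = Polynomial.X ^ p - 1 := by
    rw [sub_pow_char, one_pow]
  have hpoly2 : (Polynomial.X - 1 : Polynomial (ZMod p)) ^ (p - 1) =
      ∑ i ∈ Finset.range p, Polynomial.X ^ i := by
    refine mul_right_cancel₀ (Polynomial.X_sub_C_ne_zero (1 : ZMod p)) ?_
    rw [map_one, geom_sum_mul, ← pow_succ, Nat.sub_add_cancel hp.out.one_le, hpoly]
  have hDp : D ^ p = 0 := by
    have := congrArg (Polynomial.aeval σ) hpoly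
    simpa [hσp] using this
  have hDp1 : ∀ w i, (D ^ (p - 1)) w i = ∑ j, w j := by
    intro w i
    have := congrArg (Polynomial.aeval σ) hpoly2
    simp only [map_pow, map_sub, Polynomial.aeval_X, map_one, map_sum] at this
    rw [hD, this, LinearMap.sum_apply, Finset.sum_apply,
      Finset.sum_congr rfl fun j _ => hσk j w i]
    refine Finset.sum_bij (fun j _ => i + (j : ZMod p)) (fun _ _ => Finset.mem_univ _)
      (fun a ha b hb hab => ?_) (fun j _ => ⟨(j - i).val, Finset.mem_range.2 (ZMod.val_lt _),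
        by rw [ZMod.natCast_zmod_val, add_sub_cancel]⟩) fun _ _ => rfl
    have h2 := congrArg ZMod.val (add_left_cancel hab)
    rwa [ZMod.val_natCast_of_lt (Finset.mem_range.1 ha),
      ZMod.val_natCast_of_lt (Finset.mem_range.1 hb)] at h2
  have hDW : ∀ w ∈ W, D w ∈ W := fun w hw => W.sub_mem (hW w hw) hw
  let Wi : ℕ → AddSubgroup (ZMod p → ZMod p) := fun k => W.map (D ^ k).toAddMonoidHom
  have hsucc : ∀ k, Wi (k + 1) ≤ Wi k := by
    intro k
    rintro _ ⟨w, hw, rfl⟩
    exact ⟨D w, hDW w hw, by rw [pow_succ]; rfl⟩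
  have hlast : Wi (p - 1) ≠ ⊥ := fun h => hne (by
    have h1 : (D ^ (p - 1)) v ∈ Wi (p - 1) := ⟨v, hv, rfl⟩
    rw [h, AddSubgroup.mem_bot] at h1
    rw [← hDp1 v 0, h1]
    rfl)
  have hmono : ∀ k m, k ≤ m → Wi m ≤ Wi k := fun k m hkm => by
    induction m, hkm using Nat.le_induction with
    | base => exact le_rfl
    | succ m _ ih => exact (hsucc m).trans ih
  have hstrict : ∀ k ≤ p - 1, Wi (k + 1) < Wi k := by
    intro k hk
    refine lt_of_le_of_ne (hsucc k) fun e => hlast ?_
    have hall : ∀ j, Wi k ≤ Wi (k + j) := by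
      intro j
      induction j with
      | zero => exact le_rfl
      | succ j ih =>
        refine e.ge.trans ?_
        rintro _ ⟨w, hw, rfl⟩
        obtain ⟨w', hw', he⟩ := ih (show (D ^ k) w ∈ Wi k from ⟨w, hw, rfl⟩)
        refine ⟨w', hw', ?_⟩
        show (D ^ (k + (j + 1))) w' = (D ^ (k + 1)) w
        rw [← add_assoc, pow_succ' D (k + j), pow_succ' D k, Module.End.mul_apply,
          Module.End.mul_apply]
        exact congrArg D he
    refine eq_bot_iff.2 (((hmono k (p - 1) hk).trans (hall p)).trans ?_)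
    rintro _ ⟨w, -, rfl⟩
    show (D ^ (k + p)) w = 0
    rw [pow_add, hDp, mul_zero, LinearMap.zero_apply]
  have hcardV : Nat.card (ZMod p → ZMod p) = p ^ p := by
    rw [Nat.card_fun, Nat.card_zmod]
  have hcard : ∀ j ≤ p, p ^ j ≤ Nat.card (Wi (p - j)) := by
    intro j
    induction j with
    | zero => intro _; rw [pow_zero]; exact Nat.card_pos
    | succ j ih =>
      intro hj
      have hlt := hstrict (p - (j + 1)) (by omega)
      rw [show p - (j + 1) + 1 = p - j by omega] at hlt
      obtain ⟨m, hm⟩ := AddSubgroup.card_dvd_of_le hlt.le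
      have hdiv : m ∣ p ^ p := hcardV ▸ (Dvd.intro_left _ hm.symm).trans
        (AddSubgroup.card_addSubgroup_dvd_card _)
      obtain ⟨i, -, rfl⟩ := (Nat.dvd_prime_pow hp.out).1 hdiv
      have hi : 1 ≤ i := by
        by_contra hi
        rw [show i = 0 by omega, pow_zero, mul_one] at hm
        exact hlt.ne (AddSubgroup.eq_of_le_of_card_ge hlt.le hm.le)
      rw [hm, pow_succ]
      exact Nat.mul_le_mul (ih (by omega)) (Nat.le_self_pow (by omega) p)
  refine AddSubgroup.eq_top_of_le_card _ ?_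
  have h := hcard p le_rfl
  rw [Nat.sub_self] at h
  rw [hcardV]
  refine h.trans (le_of_eq (Nat.card_congr (Equiv.setCongr ?_)))
  ext w
  exact ⟨fun ⟨w', hw', e⟩ => e ▸ hw', fun hw => ⟨w, hw, rfl⟩⟩

end Shift

/-- The wreath quotient. -/
theorem exists_surjective_sylow_perm [Finite G] [hp : Fact p.Prime] (hG : IsPGroup p G)
    {H : Subgroup G} (hH : H ≠ ⊤) (γ : H →* Multiplicative (ZMod p)) (x : G)
    (hvan : ∀ (k : ℕ) (a : G) (h : a⁻¹ * x ^ k * a ∈ H), p ∣ k → γ ⟨_, h⟩ = 1)
    (hne : MonoidHom.transfer γ x ≠ 1) :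
    ∃ (W : Sylow p (Equiv.Perm (Fin (p ^ 2))))
      (f : G →* ↥(W : Subgroup (Equiv.Perm (Fin (p ^ 2))))), Function.Surjective f := by
  haveI : Group.IsNilpotent G := hG.isNilpotent
  obtain ⟨M, hM, hHM⟩ : ∃ M : Subgroup G, IsCoatom M ∧ H ≤ M :=
    (eq_top_or_exists_le_coatom H).resolve_left hH
  haveI : M.Normal := Cfsg.Lib.Solv.coatom_normal_of_nilpotent hM
  have hidx : M.index = p := Cfsg.Lib.Solv.coatom_index_eq_prime hG hM
  letI := Fintype.ofFinite (G ⧸ H)
  letI := Fintype.ofFinite (G ⧸ M)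
  letI := Fintype.ofFinite (↥M ⧸ H.subgroupOf M)
  rw [transfer_eq_prod_fixed hG γ x hvan] at hne
  have hxM : x ∈ M := by
    by_contra hxM
    refine hne (Finset.prod_eq_one fun q _ => dif_neg fun h => hxM ?_)
    have := Subgroup.Normal.conj_mem (inferInstance : M.Normal) _ (hHM h) q.out
    simpa [mul_assoc] using this
  let γ' : H.subgroupOf M →* Multiplicative (ZMod p) :=
    γ.comp (Subgroup.subgroupOfEquivOfLe hHM).toMonoidHom
  set δ : M →* Multiplicative (ZMod p) := MonoidHom.transfer γ' with hδ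
  have hconjM : ∀ t : G, t⁻¹ * x * t ∈ M := fun t => by
    simpa using Subgroup.Normal.conj_mem (inferInstance : M.Normal) _ hxM t⁻¹
  have hδx : ∀ t : G, δ ⟨_, hconjM t⟩ =
      ∏ q : ↥M ⧸ H.subgroupOf M, fixedVal γ x ((t * (q.out : G) : G) : G ⧸ H) := by
    intro t
    rw [hδ, transfer_eq_prod_fixed (hG.to_subgroup M) γ' _ ?_]
    · refine Finset.prod_congr rfl fun q _ => ?_
      rw [fixedVal_mk]
      have e : ((q.out⁻¹ * ⟨_, hconjM t⟩ * q.out : M) : G) =
          (t * (q.out : G))⁻¹ * x * (t * (q.out : G)) := by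
        simp [mul_assoc]
      by_cases h : (t * (q.out : G))⁻¹ * x * (t * (q.out : G)) ∈ H
      · rw [dif_pos h, fixedVal, dif_pos (Subgroup.mem_subgroupOf.2 (e ▸ h))]
        exact congrArg γ (Subtype.ext e)
      · rw [dif_neg h, fixedVal, dif_neg fun h' => h (e ▸ Subgroup.mem_subgroupOf.1 h')]
    · intro k a h hk
      have e : ((a⁻¹ * ⟨_, hconjM t⟩ ^ k * a : M) : G) =
          (t * (a : G))⁻¹ * x ^ k * (t * (a : G)) := by
        have hc := conj_pow (i := k) (a := t⁻¹) (b := x)
        rw [inv_inv] at hc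
        simp only [Subgroup.coe_mul, Subgroup.coe_inv, SubmonoidClass.coe_pow]
        rw [hc]
        group
      have h' := Subgroup.mem_subgroupOf.1 h
      rw [e] at h'
      rw [← hvan k _ h' hk]
      exact congrArg γ (Subtype.ext e)
  have hprod : ∏ t : G ⧸ M, δ ⟨_, hconjM t.out⟩ ≠ 1 := by
    rw [Finset.prod_congr rfl fun t _ => hδx t.out, ← Fintype.prod_prod_type']
    refine ne_of_eq_of_ne ?_ hne
    refine Fintype.prod_equiv (Subgroup.quotientEquivProdOfLE hHM).symm _ _ fun tq => ?_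
    refine congrArg (fixedVal γ x) ?_
    obtain ⟨t, q⟩ := tq
    conv_rhs => rw [← QuotientGroup.out_eq' q]
    rfl
  -- the generator of `G / M`
  obtain ⟨g, hg⟩ : ∃ g : G, g ∉ M :=
    by
      by_contra hc
      push Not at hc
      exact hM.1 (eq_top_iff.2 fun z _ => hc z)
  have hgp : g ^ p ∈ M := Cfsg.Lib.Solv.pow_mem_of_coatom hG hM g
  have hconj : ∀ (m : M) (t : G), t⁻¹ * (m : G) * t ∈ M := fun m t => by
    simpa using Subgroup.Normal.conj_mem (inferInstance : M.Normal) _ m.2 t⁻¹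
  have hδc : ∀ (m : M) (t t' : G), t⁻¹ * t' ∈ M →
      δ ⟨_, hconj m t'⟩ = δ ⟨_, hconj m t⟩ := by
    intro m t t' h
    have e : (⟨_, hconj m t'⟩ : M) = (⟨_, h⟩ : M)⁻¹ * ⟨_, hconj m t⟩ * ⟨_, h⟩ :=
      Subtype.ext (by simp [mul_assoc])
    rw [e, map_mul, map_mul, map_inv, mul_comm _ (δ ⟨_, h⟩), mul_inv_cancel_left]
  let Θ : M → ZMod p → ZMod p := fun m i =>
    Multiplicative.toAdd (δ ⟨_, hconj m (g ^ i.val)⟩)
  have hΘadd : ∀ a b : M, Θ (a * b) = Θ a + Θ b := by
    intro a b
    funext i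
    show Multiplicative.toAdd (δ _) = Multiplicative.toAdd (δ _) + Multiplicative.toAdd (δ _)
    rw [← toAdd_mul, ← map_mul]
    exact congrArg (fun z => Multiplicative.toAdd (δ z)) (Subtype.ext (by simp [mul_assoc]))
  let ΘW : Additive M →+ (ZMod p → ZMod p) :=
    AddMonoidHom.mk' (fun m => Θ (Additive.toMul m)) fun a b => hΘadd _ _
  have hmod : ∀ n : ℕ, (g ^ n)⁻¹ * g ^ (n % p) ∈ M := by
    intro n
    have e : g ^ n = g ^ (n % p) * (g ^ p) ^ (n / p) := by
      rw [← pow_mul, ← pow_add, Nat.mod_add_div]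
    rw [e, mul_inv_rev, inv_mul_cancel_right]
    exact inv_mem (pow_mem hgp _)
  let ΘM : M →* Multiplicative (ZMod p → ZMod p) :=
    MonoidHom.mk' (fun m => Multiplicative.ofAdd (Θ m)) fun a b => by rw [hΘadd, ofAdd_add]
  have hshift : ∀ v ∈ ΘW.range, (fun i => v (i + 1)) ∈ ΘW.range := by
    rintro _ ⟨m, rfl⟩
    refine ⟨Additive.ofMul ⟨_, hconj (Additive.toMul m) g⟩, funext fun i => ?_⟩
    show Multiplicative.toAdd (δ _) = Multiplicative.toAdd (δ _)
    refine congrArg Multiplicative.toAdd ?_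
    have e : (⟨_, hconj ⟨_, hconj (Additive.toMul m) g⟩ (g ^ i.val)⟩ : M) =
        ⟨_, hconj (Additive.toMul m) (g ^ (i.val + 1))⟩ := Subtype.ext (by
      show (g ^ i.val)⁻¹ * (g⁻¹ * _ * g) * g ^ i.val = _
      rw [pow_succ']
      group)
    show δ (⟨_, hconj ⟨_, hconj (Additive.toMul m) g⟩ (g ^ i.val)⟩ : M) = _
    rw [e]
    refine (hδc _ _ _ ?_).symm
    rw [ZMod.val_add, ZMod.val_one]
    exact hmod _
  have hbij : Function.Bijective (fun i : ZMod p => ((g ^ i.val : G) : G ⧸ M)) := by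
    rw [Fintype.bijective_iff_injective_and_card]
    refine ⟨fun a b hab => ?_, by
      rw [ZMod.card, ← Nat.card_eq_fintype_card, ← Subgroup.index_eq_card, hidx]⟩
    have hord : orderOf ((g : G ⧸ M)) = p :=
      orderOf_eq_prime (by rw [← QuotientGroup.mk_pow, QuotientGroup.eq_one_iff]; exact hgp)
        (fun h => hg ((QuotientGroup.eq_one_iff g).1 h))
    simp only [QuotientGroup.mk_pow] at hab
    rw [pow_eq_pow_iff_modEq, hord, Nat.ModEq, Nat.mod_eq_of_lt (ZMod.val_lt a),
      Nat.mod_eq_of_lt (ZMod.val_lt b)] at hab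
    exact ZMod.val_injective p hab
  have hsum : ∑ i, Θ ⟨x, hxM⟩ i ≠ 0 := by
    intro h
    apply hprod
    rw [← (hbij.prod_comp fun t => δ ⟨_, hconjM t.out⟩)]
    rw [← toAdd_eq_zero, toAdd_prod, ← h]
    refine Finset.sum_congr rfl fun i _ => congrArg Multiplicative.toAdd ?_
    exact hδc ⟨x, hxM⟩ (g ^ i.val) _ (QuotientGroup.eq.1 (QuotientGroup.out_eq' _).symm)
  have htop := eq_top_of_shift ΘW.range hshift ⟨Additive.ofMul ⟨x, hxM⟩, rfl⟩ hsum
  -- the permutation representation
  set N := δ.ker.map M.subtype with hN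
  have hNidx : N.index = p ^ 2 := by
    rw [hN, Subgroup.index_map_subtype, hidx, Subgroup.index_ker, sq]
    congr 1
    have hle : Nat.card δ.range ∣ p := by
      have := Subgroup.card_subgroup_dvd_card δ.range
      rwa [Nat.card_eq_fintype_card (α := Multiplicative (ZMod p)), Fintype.card_multiplicative,
        ZMod.card] at this
    rcases (Nat.dvd_prime hp.out).1 hle with h1 | h1
    · exfalso
      rw [Subgroup.card_eq_one, MonoidHom.range_eq_bot_iff] at h1
      exact hsum (Finset.sum_eq_zero fun i _ => by simp [Θ, h1])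
    · exact h1
  have hcore : N.normalCore ≤ M := N.normalCore_le.trans (Subgroup.map_subtype_le _)
  have hkerΘ : N.normalCore.subgroupOf M ≤
      ΘM.ker := by
    intro m hm
    rw [MonoidHom.mem_ker]
    show Multiplicative.ofAdd (Θ m) = 1
    refine congrArg Multiplicative.ofAdd (funext fun i => ?_)
    have h2 : (g ^ i.val)⁻¹ * (m : G) * g ^ i.val ∈ N := by
      have := N.normalCore_le ((Subgroup.normalCore_normal N).conj_mem _ hm (g ^ i.val)⁻¹)
      rwa [inv_inv] at this
    obtain ⟨w, hw, hwe⟩ := h2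
    show Multiplicative.toAdd (δ _) = 0
    rw [← Subtype.ext (a1 := w) (a2 := ⟨_, hconj m (g ^ i.val)⟩) hwe, MonoidHom.mem_ker.1 hw]
    rfl
  set ρ := MulAction.toPermHom G (G ⧸ N) with hρ
  have hρker : ρ.ker = N.normalCore := (Subgroup.normalCore_eq_ker N).symm
  let e : G ⧸ N ≃ Fin (p ^ 2) := Finite.equivFinOfCardEq (by rw [← Subgroup.index_eq_card, hNidx])
  let ρ' : G →* Equiv.Perm (Fin (p ^ 2)) := e.permCongrHom.toMonoidHom.comp ρ
  obtain ⟨W, hW⟩ := ((hG.of_surjective ρ'.rangeRestrict ρ'.rangeRestrict_surjective) :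
    IsPGroup p ρ'.range).exists_le_sylow
  refine ⟨W, ρ'.codRestrict _ fun z => hW ⟨z, rfl⟩, ?_⟩
  have hWcard : Nat.card (W : Subgroup (Equiv.Perm (Fin (p ^ 2)))) = p ^ (p + 1) := by
    rw [Sylow.card_eq_multiplicity, Nat.card_eq_fintype_card, Fintype.card_perm, Fintype.card_fin,
      Nat.factorization_def _ hp.out, padicValNat_factorial (n := p ^ 2) (b := 3)
        (by rw [Nat.log_pow hp.out.one_lt]; norm_num)]
    congr 1
    rw [show Finset.Ico 1 3 = {1, 2} from rfl, Finset.sum_pair (by norm_num), pow_one,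
      Nat.div_self (pow_pos hp.out.pos 2), sq, Nat.mul_div_cancel _ hp.out.pos]
  have hrange : p ^ (p + 1) ≤ Nat.card ρ'.range := by
    have h1 : ρ'.ker = N.normalCore := by
      ext z
      rw [MonoidHom.mem_ker, ← hρker, MonoidHom.mem_ker]
      exact ⟨fun h => e.permCongrHom.injective (h.trans (map_one _).symm),
        fun h => by show e.permCongrHom (ρ z) = 1; rw [h, map_one]⟩
    rw [← Subgroup.index_ker, h1, ← Subgroup.relIndex_mul_index hcore, hidx, pow_succ]
    refine Nat.mul_le_mul_right _ ?_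
    have h2 : ΘM.ker.index = p ^ p := by
      rw [Subgroup.index_ker, MonoidHom.range_eq_top.2 (fun v => by
        obtain ⟨m, hm⟩ := (AddMonoidHom.mem_range.1 (htop.ge (AddSubgroup.mem_top
          (Multiplicative.toAdd v))))
        exact ⟨Additive.toMul m, congrArg Multiplicative.ofAdd hm⟩), Subgroup.card_top,
        Nat.card_congr Multiplicative.toAdd, Nat.card_fun, Nat.card_zmod]
    rw [← h2]
    exact Nat.le_of_dvd (Nat.pos_of_ne_zero Subgroup.index_ne_zero_of_finite)
      (Subgroup.index_dvd_of_le hkerΘ)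
  have heq := Subgroup.eq_of_le_of_card_ge
    (show ρ'.range ≤ (W : Subgroup (Equiv.Perm (Fin (p ^ 2)))) from hW)
    (hWcard.trans_le hrange)
  rintro ⟨w, hw⟩
  obtain ⟨z, rfl⟩ := heq.ge hw
  exact ⟨z, rfl⟩

end Cfsg.Lib.Yoshida
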